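import Groth.Agent.H66.Cot.Basic
import Mathlib.Algebra.Order.Antidiag.FinsuppEquiv
import Mathlib.RingTheory.FiniteType
import Mathlib.RingTheory.Artinian.Module
import Mathlib.RingTheory.Artinian.Ring
import Mathlib.LinearAlgebra.Dimension.Finite
import Mathlib.LinearAlgebra.FiniteDimensional.Lemmas

/-! The associated graded ring of a Hopf algebra at the neutral point; the Frobenius kernel. -/

set_option autoImplicit false
set_option linter.unusedSectionVars false
universe u v w

open TensorProduct MvPolynomial

namespace Groth.Agent.H66.Cot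

variable {k : Type u} [Field k]

theorem finrank_homogeneous (r n : ℕ) :
    Module.Finite k ↥(homogeneousSubmodule (Fin r) k n) ∧
      Module.finrank k ↥(homogeneousSubmodule (Fin r) k n) = (r + n - 1).choose n := by
  classical
  let s : Finset (Fin r →₀ ℕ) := (Finset.univ : Finset (Fin r)).finsuppAntidiag n
  have e : homogeneousSubmodule (Fin r) k n = restrictSupport k (s : Set (Fin r →₀ ℕ)) := by
    rw [homogeneousSubmodule_eq_finsupp_supported]
    have hs : (s : Set (Fin r →₀ ℕ)) = {d | d.degree = n} := by
      ext d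
      simp [s, Finset.mem_finsuppAntidiag, Finsupp.degree_eq_sum]
    rw [hs]
    rfl
  rw [e]
  refine ⟨Module.Finite.of_basis (basisRestrictSupport k _), ?_⟩
  rw [Module.finrank_eq_card_basis (basisRestrictSupport k _)]
  simp only [Fintype.card_coe, Finset.coe_sort_coe]
  rw [Finset.card_finsuppAntidiag_nat_eq_choose]
  simp

variable {A : Type v} [CommRing A] [Bialgebra k A]

theorem finite_quot_low [IsNoetherianRing A] : Module.Finite k (A ⧸ low (k := k) (A := A)) := by
  classical
  obtain ⟨G, hG⟩ := IsNoetherian.noetherian (aug (k := k) (A := A))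
  refine ⟨⟨G.image (low (k := k) (A := A)).mkQ, eq_top_iff.2 fun q _ => ?_⟩⟩
  obtain ⟨a, rfl⟩ := (low (k := k) (A := A)).mkQ_surjective q
  have ha := sub_counit_mem (k := k) a
  rw [show (low (k := k) (A := A)).mkQ a = (low (k := k) (A := A)).mkQ (a - algebraMap k A (Bialgebra.counitAlgHom k A a)) from by
    rw [map_sub, Submodule.mkQ_apply _ (algebraMap k A _), (Submodule.Quotient.mk_eq_zero _).2 (algebraMap_mem_low _), sub_zero]]
  generalize a - algebraMap k A (Bialgebra.counitAlgHom k A a) = b at ha
  have hb : b ∈ Submodule.span A (G : Set A) := by rw [hG]; exact ha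
  clear ha
  induction hb using Submodule.span_induction with
  | mem y hy => exact Submodule.subset_span (Finset.mem_coe.2 (Finset.mem_image_of_mem _ hy))
  | zero => simp
  | add y z _ _ hy hz => rw [map_add]; exact add_mem hy hz
  | smul c y hy' hy =>
    have e : (low (k := k) (A := A)).mkQ (c • y) = Bialgebra.counitAlgHom k A c • (low (k := k) (A := A)).mkQ y := by
      rw [← map_smul]
      refine (Submodule.Quotient.eq _).2 (Submodule.mem_sup_right ?_)
      rw [Submodule.restrictScalars_mem, smul_eq_mul, Algebra.smul_def, ← sub_mul, pow_two]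
      exact Ideal.mul_mem_mul (sub_counit_mem c) (hG.le hy')
    rw [e]
    exact Submodule.smul_mem _ _ hy

theorem good_of_factorial {ι : Type w} {n : ℕ} (hn : (n.factorial : k) ≠ 0) {f : MvPolynomial ι k}
    (hf : f.IsHomogeneous n) : GoodExp f := by
  intro d hd i j hj1 hj2 hj0
  have hdi : d i ≤ n := by
    have h := hf (mem_support_iff.1 hd)
    calc d i ≤ d.degree := Finsupp.le_degree i d
      _ = n := by rw [Finsupp.degree_eq_weight_one]; exact h
  obtain ⟨c, hc⟩ := Nat.dvd_factorial hj1 (hj2.trans hdi)
  rw [hc, Nat.cast_mul, hj0, zero_mul] at hn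
  exact hn rfl

/-- The dimension of the graded pieces. -/
theorem finrank_quotient_pow_succ [IsNoetherianRing A] (n : ℕ) (hn : (n.factorial : k) ≠ 0) :
    Module.finrank k (A ⧸ aug (k := k) (A := A) ^ (n + 1)) =
      Module.finrank k (A ⧸ aug (k := k) (A := A) ^ n) +
        (Module.finrank k (aug (k := k) (A := A)).Cotangent + n - 1).choose n := by
  classical
  haveI := finite_quot_low (k := k) (A := A)
  obtain ⟨e⟩ := exists_cotangentEquiv (k := k) (A := A)
  rw [e.finrank_eq]
  let bas := Module.finBasis k (A ⧸ low (k := k) (A := A))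
  obtain ⟨hfin, hdim⟩ := finrank_homogeneous (k := k) (Module.finrank k (A ⧸ low (k := k) (A := A))) n
  let m := aug (k := k) (A := A)
  have hfinq : ∀ j, Module.Finite k (A ⧸ m ^ j) := by
    intro j
    induction j with
    | zero =>
      haveI : Subsingleton (A ⧸ m ^ 0) := Ideal.Quotient.subsingleton_iff.2 (by simp)
      infer_instance
    | succ j ih =>
      haveI := (finrank_homogeneous (k := k) (Module.finrank k (A ⧸ low (k := k) (A := A))) j).1
      let Φ := ((Ideal.Quotient.mkₐ k (m ^ (j + 1))).toLinearMap ∘ₗ (ev bas).toLinearMap) ∘ₗ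
        (homogeneousSubmodule _ k j).subtype
      let π := (Ideal.Quotient.factorₐ k (Ideal.pow_le_pow_right (I := m) (Nat.le_add_right j 1))).toLinearMap
      have hker : LinearMap.ker π = LinearMap.range Φ := by
        refine le_antisymm ?_ ?_
        · intro q hq
          obtain ⟨a, rfl⟩ := Ideal.Quotient.mk_surjective q
          obtain ⟨f, hf, haf⟩ := aug_pow_le bas j a (Ideal.Quotient.eq_zero_iff_mem.1 hq)
          rw [linForms_pow] at hf
          exact ⟨⟨f, hf⟩, (Ideal.Quotient.eq.2 haf).symm⟩
        · rintro _ ⟨⟨f, hf⟩, rfl⟩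
          rw [← linForms_pow] at hf
          exact Ideal.Quotient.eq_zero_iff_mem.2 (ev_mem bas j f hf)
      haveI : Module.Finite k ↥(LinearMap.ker π) := by rw [hker]; infer_instance
      haveI : Module.Finite k ↥(LinearMap.range π) := inferInstance
      haveI : Module.Finite k ((A ⧸ m ^ (j + 1)) ⧸ LinearMap.ker π) := Module.Finite.equiv π.quotKerEquivRange.symm
      exact Module.Finite.of_submodule_quotient (LinearMap.ker π)
  haveI := hfinq (n + 1)
  let Φ := ((Ideal.Quotient.mkₐ k (m ^ (n + 1))).toLinearMap ∘ₗ (ev bas).toLinearMap) ∘ₗ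
    (homogeneousSubmodule _ k n).subtype
  let π := (Ideal.Quotient.factorₐ k (Ideal.pow_le_pow_right (I := m) (Nat.le_add_right n 1))).toLinearMap
  have hker : LinearMap.ker π = LinearMap.range Φ := by
    refine le_antisymm ?_ ?_
    · intro q hq
      obtain ⟨a, rfl⟩ := Ideal.Quotient.mk_surjective q
      obtain ⟨f, hf, haf⟩ := aug_pow_le bas n a (Ideal.Quotient.eq_zero_iff_mem.1 hq)
      rw [linForms_pow] at hf
      exact ⟨⟨f, hf⟩, (Ideal.Quotient.eq.2 haf).symm⟩
    · rintro _ ⟨⟨f, hf⟩, rfl⟩
      rw [← linForms_pow] at hf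
      exact Ideal.Quotient.eq_zero_iff_mem.2 (ev_mem bas n f hf)
  have hinj : Function.Injective Φ := by
    rw [← LinearMap.ker_eq_bot, Submodule.eq_bot_iff]
    rintro ⟨f, hf⟩ h
    refine Subtype.ext ?_
    refine eq_zero_of_ev_mem bas ⊥ bot_le (fun i a ha => ?_) n f (by rwa [linForms_pow])
      (good_of_factorial hn hf) (Ideal.mem_sup_right (Ideal.Quotient.eq_zero_iff_mem.1 h))
    rw [(Submodule.mem_bot A).1 ha, map_zero]
    exact zero_mem _
  have hsurj : Function.Surjective π := Ideal.Quotient.factor_surjective (Ideal.pow_le_pow_right (Nat.le_add_right n 1))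
  rw [← LinearMap.finrank_range_add_finrank_ker π, hker, LinearMap.finrank_range_of_inj hinj, hdim,
    LinearMap.range_eq_top.2 hsurj, finrank_top]

/-- The Frobenius kernel of an infinitesimal group. -/
theorem exists_algEquiv_frobeniusKernel [Module.Finite k A] [IsLocalRing A] (p : ℕ) [Fact p.Prime] [CharP k p]
    (d : ℕ) (hd : Module.finrank k (aug (k := k) (A := A)).Cotangent = d) :
    Nonempty ((A ⧸ Ideal.span ((fun a : A => a ^ p) '' (aug (k := k) (A := A) : Set A))) ≃ₐ[k]
      (MvPolynomial (Fin d) k ⧸ Ideal.span (Set.range fun i : Fin d => (X i : MvPolynomial (Fin d) k) ^ p))) := by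
  classical
  haveI : IsNoetherianRing A := IsNoetherianRing.of_finite k A
  haveI : IsArtinianRing A := IsArtinianRing.of_finite k A
  haveI := finite_quot_low (k := k) (A := A)
  obtain ⟨e⟩ := exists_cotangentEquiv (k := k) (A := A)
  rw [e.finrank_eq] at hd
  let bas : Module.Basis (Fin d) k (A ⧸ low (k := k) (A := A)) := Module.finBasisOfFinrankEq k _ hd
  let J : Ideal A := Ideal.span ((fun a : A => a ^ p) '' (aug (k := k) (A := A) : Set A))
  have hp : p.Prime := Fact.out
  have hJ : J ≤ aug (k := k) := Ideal.span_le.2 fun y hy => by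
    obtain ⟨a, ha, rfl⟩ := hy
    exact Ideal.pow_mem_of_mem _ ha p hp.pos
  let φ : MvPolynomial (Fin d) k →ₐ[k] A ⧸ J := (Ideal.Quotient.mkₐ k J).comp (ev bas)
  let P : Ideal (MvPolynomial (Fin d) k) := Ideal.span (Set.range fun i : Fin d => (X i : MvPolynomial (Fin d) k) ^ p)
  have hPle : P ≤ RingHom.ker φ := Ideal.span_le.2 fun y hy => by
    obtain ⟨i, rfl⟩ := hy
    change Ideal.Quotient.mk J (ev bas (X i ^ p)) = 0
    rw [Ideal.Quotient.eq_zero_iff_mem, map_pow, ev, aeval_X]
    exact Ideal.subset_span ⟨_, par_mem bas i, rfl⟩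
  have hnil : IsNilpotent (aug (k := k) (A := A)) := by
    have hmax : (aug (k := k) (A := A)).IsMaximal :=
      RingHom.ker_isMaximal_of_surjective _ fun c => ⟨algebraMap k A c, by simp⟩
    have h := IsArtinianRing.isNilpotent_jacobson_bot (R := A)
    rwa [IsLocalRing.jacobson_eq_maximalIdeal ⊥ bot_ne_top, ← IsLocalRing.eq_maximalIdeal hmax] at h
  obtain ⟨N, hN⟩ := hnil
  have hsurj : Function.Surjective φ := by
    have key : ∀ j ≤ N, ∀ a ∈ aug (k := k) (A := A) ^ (N - j), ∃ f, ev bas f = a := by
      intro j
      induction j with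
      | zero =>
        intro _ a ha
        rw [Nat.sub_zero, hN] at ha
        exact ⟨0, by rw [map_zero]; exact ((Submodule.mem_bot A).1 ha).symm⟩
      | succ j ih =>
        intro hj a ha
        obtain ⟨f, -, haf⟩ := aug_pow_le bas _ a ha
        rw [show N - (j + 1) + 1 = N - j by omega] at haf
        obtain ⟨g, hg⟩ := ih (by omega) _ haf
        exact ⟨f + g, by rw [map_add, hg, add_sub_cancel]⟩
    intro q
    obtain ⟨a, rfl⟩ := Ideal.Quotient.mk_surjective q
    obtain ⟨f, hf⟩ := key N le_rfl a (by simp)
    exact ⟨f, congrArg (Ideal.Quotient.mk J) hf⟩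
  have hker : RingHom.ker φ ≤ P := by
    intro f hf
    let f' : MvPolynomial (Fin d) k := ∑ t ∈ f.support.filter (fun t => ∀ i, t i < p), monomial t (coeff t f)
    have hdiff : f - f' ∈ P := by
      have e : f - f' = ∑ t ∈ f.support.filter (fun t => ¬ ∀ i, t i < p), monomial t (coeff t f) := by
        conv_lhs => arg 1; rw [f.as_sum]
        rw [← Finset.sum_filter_add_sum_filter_not f.support (fun t => ∀ i, t i < p), add_sub_cancel_left]
      rw [e]
      refine Ideal.sum_mem _ fun t ht => ?_
      obtain ⟨i, hi⟩ := not_forall.1 (Finset.mem_filter.1 ht).2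
      rw [show monomial t (coeff t f) = monomial (t - Finsupp.single i p) (coeff t f) * X i ^ p by
        have hadd : t - Finsupp.single i p + Finsupp.single i p = t := by
          ext a
          by_cases ha : i = a
          · subst ha; simp; omega
          · simp [Finsupp.single_eq_of_ne (Ne.symm ha)]
        rw [X_pow_eq_monomial, monomial_mul, mul_one, hadd]]
      exact Ideal.mul_mem_left _ _ (Ideal.subset_span ⟨i, rfl⟩)
    have hsupp : ∀ t ∈ f'.support, ∀ i, t i < p := by
      intro t ht
      have := support_sum ht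
      rw [Finset.mem_biUnion] at this
      obtain ⟨s, hs, hts⟩ := this
      rw [Finset.mem_singleton.1 (support_monomial_subset hts)]
      exact (Finset.mem_filter.1 hs).2
    have hf' : ev bas f' ∈ J := by
      refine Ideal.Quotient.eq_zero_iff_mem.1 ?_
      have h1 : φ (f - f') = 0 := hPle hdiff
      rw [map_sub, show φ f = 0 from hf, zero_sub, neg_eq_zero] at h1
      exact h1
    clear_value f'
    have hcomp : ∀ n, homogeneousComponent n f' = 0 := by
      intro n
      induction n using Nat.strong_induction_on with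
      | _ n ih =>
      refine eq_zero_of_ev_mem bas J hJ (fun i a ha => inv_mem_span_pow (p := p) hp.ne_zero _ (isTangent_tau bas i) ha)
        n _ (by rw [linForms_pow]; exact homogeneousComponent_mem n f') ?_ ?_
      · intro t ht i j hj1 hj2 hj0
        rw [mem_support_iff, coeff_homogeneousComponent, ne_eq, ite_eq_right_iff, Classical.not_imp] at ht
        have htp := hsupp t (mem_support_iff.2 ht.2) i
        have := Nat.le_of_dvd hj1 ((CharP.cast_eq_zero_iff k p j).1 hj0)
        omega
      · have e : homogeneousComponent n f' =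
            f' - ∑ m ∈ (Finset.range (f'.totalDegree + 1)).erase n, homogeneousComponent m f' := by
          conv_rhs => arg 1; rw [← sum_homogeneousComponent f']
          by_cases hn : n ∈ Finset.range (f'.totalDegree + 1)
          · rw [← Finset.add_sum_erase _ _ hn, add_sub_cancel_right]
          · rw [Finset.erase_eq_of_notMem hn, sub_self, homogeneousComponent_eq_zero]
            simp at hn
            omega
        rw [e, map_sub, map_sum]
        refine sub_mem (Ideal.mem_sup_left hf') (Ideal.sum_mem _ fun m hm => ?_)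
        obtain ⟨hmn, -⟩ := Finset.mem_erase.1 hm
        rcases Nat.lt_or_ge m n with h | h
        · rw [ih m h, map_zero]; exact zero_mem _
        · refine Ideal.mem_sup_right (Ideal.pow_le_pow_right (show n + 1 ≤ m by omega) ?_)
          exact ev_mem bas m _ (by rw [linForms_pow]; exact homogeneousComponent_mem m f')
    have hf0 : f' = 0 := by
      rw [← sum_homogeneousComponent f', Finset.sum_eq_zero fun m _ => hcomp m]
    rwa [hf0, sub_zero] at hdiff
  exact ⟨((Ideal.quotientEquivAlgOfEq k (le_antisymm hPle hker)).trans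
    (Ideal.quotientKerAlgEquivOfSurjective hsurj)).symm⟩

end Groth.Agent.H66.Cot
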