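import Groth.Agent.Lib.Comod.Basic
import Mathlib.Algebra.MvPolynomial.PDeriv
import Mathlib.RingTheory.MvPolynomial.Homogeneous
import Mathlib.RingTheory.Ideal.Cotangent
import Mathlib.LinearAlgebra.Dimension.Finrank

/-! Invariant derivations of a bialgebra at the neutral point, in any characteristic: restricted
monomials in local parameters are independent in the associated graded ring. (Adapted from the
characteristic zero argument for Cartier's theorem, with universes separated.) -/

set_option autoImplicit false
set_option linter.unusedSectionVars false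
universe u v w

open TensorProduct MvPolynomial
open Groth.Agent.Lib.Comod.Basic

namespace Groth.Agent.H66.Cot

variable {k : Type u} [Field k]
variable {A : Type v} [CommRing A] [Bialgebra k A]

local notation "ε" => Bialgebra.counitAlgHom k A

/-- `τ` is a point derivation at the neutral point. -/
def IsTangent (τ : A →ₗ[k] k) : Prop := ∀ a b : A, τ (a * b) = ε a * τ b + τ a * ε b

/-- The left invariant derivation attached to a tangent vector. -/
noncomputable def inv (τ : A →ₗ[k] k) : A →ₗ[k] A :=
  contract (V := A) τ ∘ₗ CoalgebraStruct.comul (R := k) (A := A)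

theorem contract_mul (τ : A →ₗ[k] k) (hτ : IsTangent τ) (u v : A ⊗[k] A) :
    contract (V := A) τ (u * v) =
      contract (V := A) (CoalgebraStruct.counit (R := k)) u * contract (V := A) τ v +
      contract (V := A) τ u * contract (V := A) (CoalgebraStruct.counit (R := k)) v := by
  induction u using TensorProduct.induction_on with
  | zero => simp
  | add a b ha hb => simp only [add_mul, map_add, ha, hb]; abel
  | tmul a b =>
    induction v using TensorProduct.induction_on with
    | zero => simp
    | add c d hc hd => simp only [mul_add, add_mul, map_add, hc, hd]; abel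
    | tmul c d =>
      simp only [Algebra.TensorProduct.tmul_mul_tmul, contract_tmul, hτ b d,
        Bialgebra.counitAlgHom_apply, smul_mul_assoc, mul_smul_comm, smul_smul, add_smul]
      ring_nf

theorem contract_counit_comul (a : A) :
    contract (V := A) (CoalgebraStruct.counit (R := k)) (CoalgebraStruct.comul (R := k) a) = a := by
  have h := LinearMap.congr_fun (Coalgebra.lTensor_counit_comp_comul (R := k) (A := A)) a
  simp only [LinearMap.comp_apply] at h
  simp [contract, h]

theorem inv_mul (τ : A →ₗ[k] k) (hτ : IsTangent τ) (a b : A) :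
    inv τ (a * b) = a * inv τ b + inv τ a * b := by
  simp [inv, Bialgebra.comul_mul, contract_mul τ hτ, contract_counit_comul]

theorem inv_algebraMap (τ : A →ₗ[k] k) (hτ : IsTangent τ) (c : k) :
    inv τ (algebraMap k A c) = 0 := by
  have h1 : inv τ (1 : A) = 0 := by
    have h := inv_mul τ hτ 1 1
    simp only [one_mul, mul_one] at h
    simpa using h
  rw [Algebra.algebraMap_eq_smul_one, map_smul, h1, smul_zero]

theorem counit_inv (τ : A →ₗ[k] k) (a : A) : ε (inv τ a) = τ a := by
  have key : ∀ w : A ⊗[k] A, ε (contract (V := A) τ w) =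
      τ ((TensorProduct.lid k A) ((CoalgebraStruct.counit (R := k) (A := A)).rTensor A w)) := fun w => by
    induction w using TensorProduct.induction_on with
    | zero => simp
    | add a b ha hb => simp only [map_add, ha, hb]
    | tmul a b => simp [Bialgebra.counitAlgHom_apply, mul_comm]
  rw [inv, LinearMap.comp_apply, key]
  simp

/-- The augmentation ideal. -/
noncomputable def aug : Ideal A := RingHom.ker ε

theorem mem_aug {a : A} : a ∈ aug (k := k) ↔ ε a = 0 := RingHom.mem_ker

theorem sub_counit_mem (a : A) : a - algebraMap k A (ε a) ∈ aug (k := k) := by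
  simp [mem_aug]

/-- `k + m²`. -/
noncomputable def low : Submodule k A := Submodule.span k {(1 : A)} ⊔ (aug (k := k) ^ 2).restrictScalars k

theorem tangent_of_low (φ : A →ₗ[k] k) (hφ : ∀ a ∈ low (k := k) (A := A), φ a = 0) : IsTangent φ := by
  intro a b
  have h1 : φ (1 : A) = 0 := hφ _ (Submodule.mem_sup_left (Submodule.subset_span rfl))
  have h2 : φ ((a - algebraMap k A (ε a)) * (b - algebraMap k A (ε b))) = 0 :=
    hφ _ (Submodule.mem_sup_right (by
      change _ ∈ aug (k := k) ^ 2
      rw [pow_two]; exact Ideal.mul_mem_mul (sub_counit_mem a) (sub_counit_mem b)))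
  have h3 : a * b = (a - algebraMap k A (ε a)) * (b - algebraMap k A (ε b)) + ε b • a + ε a • b
      - (ε a * ε b) • (1 : A) := by
    simp only [Algebra.smul_def, map_mul]; ring
  rw [h3, map_sub, map_add, map_add, map_smul, map_smul, map_smul, h1, h2]
  simp [mul_comm, add_comm]

theorem algebraMap_mem_low (c : k) : algebraMap k A c ∈ low (k := k) (A := A) := by
  rw [Algebra.algebraMap_eq_smul_one]
  exact Submodule.smul_mem _ c (Submodule.mem_sup_left (Submodule.subset_span rfl))

section Coord

variable {ι : Type w} (bas : Module.Basis ι k (A ⧸ low (k := k) (A := A)))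

/-- The tangent vectors of the dual basis. -/
noncomputable def tau (i : ι) : A →ₗ[k] k := (bas.coord i) ∘ₗ (low (k := k) (A := A)).mkQ

theorem isTangent_tau (i : ι) : IsTangent (tau bas i) :=
  tangent_of_low _ fun a ha => by
    rw [tau, LinearMap.comp_apply, Submodule.mkQ_apply, (Submodule.Quotient.mk_eq_zero _).2 ha, map_zero]

/-- Local parameters at the neutral point. -/
noncomputable def par (i : ι) : A :=
  (fun a => a - algebraMap k A (ε a)) (Function.surjInv (low (k := k) (A := A)).mkQ_surjective (bas i))

theorem par_mem (i : ι) : par bas i ∈ aug (k := k) := sub_counit_mem _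

theorem mkQ_par (i : ι) : (low (k := k) (A := A)).mkQ (par bas i) = bas i := by
  simp only [par]
  rw [map_sub, Function.surjInv_eq (low (k := k) (A := A)).mkQ_surjective (bas i),
    Submodule.mkQ_apply, (Submodule.Quotient.mk_eq_zero _).2 (algebraMap_mem_low _), sub_zero]

theorem tau_par [DecidableEq ι] (i j : ι) :
    tau bas i (par bas j) = if j = i then 1 else 0 := by
  rw [tau, LinearMap.comp_apply, mkQ_par bas, Module.Basis.coord_apply, Module.Basis.repr_self,
    Finsupp.single_apply]

variable (k ι) in
/-- Linear forms. -/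
noncomputable def linForms : Submodule k (MvPolynomial ι k) :=
  Submodule.span k (Set.range X)

/-- Evaluation at the local parameters. -/
noncomputable def ev : MvPolynomial ι k →ₐ[k] A := aeval (par bas)

theorem ev_mem (n : ℕ) (f : MvPolynomial ι k) (hf : f ∈ linForms k ι ^ n) :
    ev bas f ∈ aug (k := k) ^ n := by
  induction n generalizing f with
  | zero => simp
  | succ n ih =>
    rw [pow_succ] at hf
    refine Submodule.mul_induction_on hf (fun g hg h hh => ?_) fun g h hg hh => by
      rw [map_add]; exact add_mem hg hh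
    rw [map_mul, pow_succ]
    refine Ideal.mul_mem_mul (ih g hg) ?_
    unfold linForms at hh
    induction hh using Submodule.span_induction with
    | mem y hy => obtain ⟨i, rfl⟩ := hy; simpa [ev] using par_mem bas i
    | zero => simp
    | add y z _ _ hy hz => rw [map_add]; exact add_mem hy hz
    | smul c y _ hy => rw [map_smul, Algebra.smul_def]; exact Ideal.mul_mem_left _ _ hy

theorem aug_pow_le (n : ℕ) (a : A) (ha : a ∈ aug (k := k) ^ n) :
    ∃ f ∈ linForms k ι ^ n, a - ev bas f ∈ aug (k := k) ^ (n + 1) := by
  induction n generalizing a with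
  | zero =>
    refine ⟨C (ε a), ?_, by simpa [ev] using sub_counit_mem a⟩
    rw [pow_zero, Submodule.one_eq_span]
    exact Submodule.mem_span_singleton.2 ⟨ε a, by simp [smul_eq_C_mul]⟩
  | succ n ih =>
    rw [pow_succ] at ha
    refine Submodule.mul_induction_on ha (fun b hb c hc => ?_) fun b c hb hc => ?_
    · obtain ⟨f, hf, hbf⟩ := ih b hb
      obtain ⟨g, hg, hcg⟩ : ∃ g ∈ linForms k ι, c - ev bas g ∈ aug (k := k) ^ 2 := by
        have hspan : (low (k := k) (A := A)).mkQ c ∈ Submodule.span k (Set.range (bas)) := by
          rw [bas.span_eq]; trivial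
        have : ∀ z ∈ Submodule.span k (Set.range (bas)),
            ∃ g ∈ linForms k ι, (low (k := k) (A := A)).mkQ (ev bas g) = z := by
          intro z hz
          induction hz using Submodule.span_induction with
          | mem y hy =>
            obtain ⟨i, rfl⟩ := hy
            exact ⟨X i, Submodule.subset_span ⟨i, rfl⟩, by rw [ev, aeval_X, mkQ_par bas]⟩
          | zero => exact ⟨0, zero_mem _, by simp⟩
          | add y z _ _ hy hz =>
            obtain ⟨g, hg, rfl⟩ := hy
            obtain ⟨h, hh, rfl⟩ := hz
            exact ⟨g + h, add_mem hg hh, by simp⟩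
          | smul t y _ hy =>
            obtain ⟨g, hg, rfl⟩ := hy
            exact ⟨t • g, Submodule.smul_mem _ t hg, by simp⟩
        obtain ⟨g, hg, hgc⟩ := this _ hspan
        refine ⟨g, hg, ?_⟩
        have hmem := (Submodule.Quotient.eq _).1 hgc.symm
        obtain ⟨y, hy, z, hz, hyz⟩ := Submodule.mem_sup.1 hmem
        obtain ⟨t, rfl⟩ := Submodule.mem_span_singleton.1 hy
        have h1 : ε (c - ev bas g) = 0 := by
          rw [map_sub, mem_aug.1 hc, zero_sub, neg_eq_zero, ← mem_aug]
          simpa using ev_mem bas 1 g (by simpa using hg)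
        have hz0 : ε z = 0 := mem_aug.1 (Ideal.pow_le_self two_ne_zero hz)
        rw [← hyz, map_add, map_smul, map_one, hz0, add_zero, smul_eq_mul, mul_one] at h1
        rw [← hyz, h1, zero_smul, zero_add]
        exact hz
      refine ⟨f * g, by rw [pow_succ]; exact Submodule.mul_mem_mul hf hg, ?_⟩
      have hev : ev bas f ∈ aug (k := k) ^ n := ev_mem bas n f hf
      rw [map_mul, show b * c - ev bas f * ev bas g = (b - ev bas f) * c + ev bas f * (c - ev bas g) by ring]
      refine add_mem ?_ ?_
      · rw [pow_succ _ (n + 1)]; exact Ideal.mul_mem_mul hbf hc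
      · rw [show n + 1 + 1 = n + 2 from rfl, pow_add]; exact Ideal.mul_mem_mul hev hcg
    · obtain ⟨f, hf, h1⟩ := hb
      obtain ⟨g, hg, h2⟩ := hc
      exact ⟨f + g, add_mem hf hg, by rw [map_add, add_sub_add_comm]; exact add_mem h1 h2⟩

theorem inv_pow_mem (τ : A →ₗ[k] k) (hτ : IsTangent τ) (n : ℕ) (a : A)
    (ha : a ∈ aug (k := k) ^ (n + 1)) : inv τ a ∈ aug (k := k) ^ n := by
  induction n generalizing a with
  | zero => simp
  | succ n ih =>
    rw [pow_succ] at ha
    refine Submodule.mul_induction_on ha (fun b hb c hc => ?_) fun b c hb hc => by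
      rw [map_add]; exact add_mem hb hc
    rw [inv_mul τ hτ]
    refine add_mem (Ideal.mul_mem_right _ _ hb) ?_
    rw [pow_succ]
    exact Ideal.mul_mem_mul (ih b hb) hc

theorem pderiv_mem_one [DecidableEq ι] (i : ι) (h : MvPolynomial ι k) (hh : h ∈ linForms k ι) :
    pderiv i h ∈ linForms k ι ^ 0 ∧
      inv (tau bas i) (ev bas h) - ev bas (pderiv i h) ∈ aug (k := k) ^ 1 := by
  unfold linForms at hh
  induction hh using Submodule.span_induction with
  | mem y hy =>
    obtain ⟨j, rfl⟩ := hy
    refine ⟨?_, ?_⟩
    · rw [pow_zero, Submodule.one_eq_span, pderiv_X, Pi.single_apply]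
      split_ifs
      · exact Submodule.subset_span rfl
      · exact zero_mem _
    · rw [pow_one, mem_aug, map_sub, counit_inv, ev, aeval_X, tau_par, pderiv_X, Pi.single_apply]
      by_cases hj : j = i
      · simp [hj]
      · simp [hj, Ne.symm hj]
  | zero => simp
  | add y z _ _ hy hz =>
    refine ⟨by rw [map_add]; exact add_mem hy.1 hz.1, ?_⟩
    simp only [map_add, add_sub_add_comm]; exact add_mem hy.2 hz.2
  | smul c y _ hy =>
    refine ⟨by rw [Derivation.map_smul]; exact Submodule.smul_mem _ c hy.1, ?_⟩
    simp only [map_smul, Derivation.map_smul, ← smul_sub]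
    rw [Algebra.smul_def]
    exact Ideal.mul_mem_left _ _ hy.2

theorem pderiv_mem [DecidableEq ι] (i : ι) (n : ℕ) (f : MvPolynomial ι k)
    (hf : f ∈ linForms k ι ^ (n + 1)) :
    pderiv i f ∈ linForms k ι ^ n ∧
      inv (tau bas i) (ev bas f) - ev bas (pderiv i f) ∈ aug (k := k) ^ (n + 1) := by
  induction n generalizing f with
  | zero => exact pderiv_mem_one bas i f (by simpa using hf)
  | succ n ih =>
    rw [pow_succ] at hf
    refine Submodule.mul_induction_on hf (fun g hg h hh => ?_) fun g h hg hh => ?_
    · obtain ⟨hg1, hg2⟩ := ih g hg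
      obtain ⟨hb1, hb2⟩ := pderiv_mem_one bas i h hh
      rw [pderiv_mul]
      refine ⟨add_mem ?_ ?_, ?_⟩
      · rw [pow_succ]; exact Submodule.mul_mem_mul hg1 hh
      · have := Submodule.mul_mem_mul hg hb1
        rwa [pow_zero, mul_one] at this
      · simp only [map_mul, map_add, inv_mul (tau bas i) (isTangent_tau bas i)]
        rw [show ev bas g * inv (tau bas i) (ev bas h) + inv (tau bas i) (ev bas g) * ev bas h -
            (ev bas (pderiv i g) * ev bas h + ev bas g * ev bas (pderiv i h)) =
            ev bas g * (inv (tau bas i) (ev bas h) - ev bas (pderiv i h)) +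
            (inv (tau bas i) (ev bas g) - ev bas (pderiv i g)) * ev bas h by ring, pow_succ]
        exact add_mem (Ideal.mul_mem_mul (ev_mem bas _ g hg) (by simpa using hb2))
          (Ideal.mul_mem_mul hg2 (by simpa using ev_mem bas 1 h (by simpa using hh)))
    · refine ⟨by rw [map_add]; exact add_mem hg.1 hh.1, ?_⟩
      simp only [map_add, add_sub_add_comm]; exact add_mem hg.2 hh.2

theorem constantCoeff_linForms (n : ℕ) (f : MvPolynomial ι k)
    (hf : f ∈ linForms k ι ^ (n + 1)) : constantCoeff f = 0 := by
  rw [pow_succ] at hf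
  refine Submodule.mul_induction_on hf (fun g hg h hh => ?_) fun g h hg hh => by simp [hg, hh]
  have : constantCoeff h = 0 := by
    unfold linForms at hh
    induction hh using Submodule.span_induction with
    | mem y hy => obtain ⟨i, rfl⟩ := hy; simp
    | zero => simp
    | add y z _ _ hy hz => simp [hy, hz]
    | smul c y _ hy => simp [hy, constantCoeff_eq]
  simp [this]

/-- The exponents of `f` are small compared to the characteristic. -/
def GoodExp (f : MvPolynomial ι k) : Prop :=
  ∀ d ∈ f.support, ∀ i, ∀ j : ℕ, 1 ≤ j → j ≤ d i → (j : k) ≠ 0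

theorem goodExp_pderiv [DecidableEq ι] {f : MvPolynomial ι k} (hf : GoodExp f) (i : ι) :
    GoodExp (pderiv i f) := by
  intro d hd a j hj1 hj2
  refine hf (d + Finsupp.single i 1) ?_ a j hj1 (hj2.trans (by simp))
  rw [mem_support_iff] at hd ⊢
  intro h0
  rw [coeff_pderiv, h0, zero_mul] at hd
  exact hd rfl

/-- Restricted monomials are independent in the associated graded ring, also modulo an ideal stable
under the invariant derivations. -/
theorem eq_zero_of_ev_mem (J : Ideal A) (hJ : J ≤ aug (k := k))
    (hD : ∀ i, ∀ a ∈ J, inv (tau bas i) a ∈ J) (n : ℕ) (f : MvPolynomial ι k)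
    (hf : f ∈ linForms k ι ^ n) (hgood : GoodExp f) (hev : ev bas f ∈ J ⊔ aug (k := k) ^ (n + 1)) :
    f = 0 := by
  classical
  induction n generalizing f with
  | zero =>
    rw [pow_zero, Submodule.one_eq_span] at hf
    obtain ⟨c, rfl⟩ := Submodule.mem_span_singleton.1 hf
    rw [zero_add, pow_one, sup_eq_right.2 hJ, mem_aug] at hev
    simp at hev
    simp [hev]
  | succ n ih =>
    have hd : ∀ i, pderiv i f = 0 := fun i => by
      obtain ⟨h1, h2⟩ := pderiv_mem bas i n f hf
      refine ih _ h1 (goodExp_pderiv hgood i) ?_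
      obtain ⟨a, ha, b, hb, hab⟩ := Submodule.mem_sup.1 hev
      have h3 : inv (tau bas i) (ev bas f) ∈ J ⊔ aug (k := k) ^ (n + 1) := by
        rw [← hab, map_add]
        exact add_mem (Ideal.mem_sup_left (hD i a ha))
          (Ideal.mem_sup_right (inv_pow_mem (tau bas i) (isTangent_tau bas i) (n + 1) _ hb))
      have := sub_mem h3 (Ideal.mem_sup_right h2)
      rwa [sub_sub_cancel] at this
    ext d
    rw [coeff_zero]
    by_cases h0 : d = 0
    · subst h0
      exact constantCoeff_linForms n f hf
    obtain ⟨i, hi⟩ : ∃ i, d i ≠ 0 := by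
      by_contra hcon
      push_neg at hcon
      exact h0 (Finsupp.ext hcon)
    have h := congrArg (coeff (d - Finsupp.single i 1)) (hd i)
    rw [coeff_pderiv, coeff_zero] at h
    have hadd : d - Finsupp.single i 1 + Finsupp.single i 1 = d := by
      ext j
      by_cases hj : i = j
      · subst hj; simp; omega
      · simp [Finsupp.single_eq_of_ne (Ne.symm hj)]
    rw [hadd] at h
    by_contra hne
    have hcast := hgood d (mem_support_iff.2 hne) i (d i) (Nat.one_le_iff_ne_zero.2 hi) le_rfl
    have e : ((d - Finsupp.single i 1 : ι →₀ ℕ) i : ℕ) + 1 = d i := by simp; omega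
    rcases mul_eq_zero.1 h with h' | h'
    · exact hne h'
    · refine hcast ?_
      rw [← e]
      exact_mod_cast h'

theorem linForms_pow (n : ℕ) : linForms k ι ^ n = homogeneousSubmodule ι k n := by
  rw [linForms, ← homogeneousSubmodule_one_eq_span_X, homogeneousSubmodule_one_pow]

end Coord

theorem low_inter {a : A} (ha : a ∈ aug (k := k)) (h : a ∈ low (k := k) (A := A)) :
    a ∈ aug (k := k) ^ 2 := by
  obtain ⟨y, hy, z, hz, rfl⟩ := Submodule.mem_sup.1 h
  obtain ⟨t, rfl⟩ := Submodule.mem_span_singleton.1 hy
  have hz0 : ε z = 0 := mem_aug.1 (Ideal.pow_le_self two_ne_zero hz)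
  have ht := mem_aug.1 ha
  rw [map_add, map_smul, map_one, hz0, add_zero, smul_eq_mul, mul_one] at ht
  rw [ht, zero_smul, zero_add]
  exact hz

/-- The cotangent space at the neutral point as a quotient of the algebra. -/
theorem exists_cotangentEquiv :
    Nonempty ((aug (k := k) (A := A)).Cotangent ≃ₗ[k] A ⧸ low (k := k) (A := A)) := by
  let g : ↥(aug (k := k) (A := A)) →ₗ[k] A ⧸ low (k := k) (A := A) :=
    (low (k := k) (A := A)).mkQ ∘ₗ (Submodule.subtype (aug (k := k) (A := A))).restrictScalars k
  let t : ↥(aug (k := k) (A := A)) →ₗ[k] (aug (k := k) (A := A)).Cotangent :=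
    (aug (k := k) (A := A)).toCotangent.restrictScalars k
  have hg : Function.Surjective g := by
    intro q
    obtain ⟨a, rfl⟩ := (low (k := k) (A := A)).mkQ_surjective q
    refine ⟨⟨_, sub_counit_mem a⟩, ?_⟩
    change (low (k := k) (A := A)).mkQ (a - algebraMap k A (ε a)) = _
    rw [map_sub, Submodule.mkQ_apply _ (algebraMap k A _),
      (Submodule.Quotient.mk_eq_zero _).2 (algebraMap_mem_low _), sub_zero]
  have ht : Function.Surjective t := (aug (k := k) (A := A)).toCotangent_surjective
  have hker : LinearMap.ker t = LinearMap.ker g := by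
    ext a
    rw [LinearMap.mem_ker, LinearMap.mem_ker]
    change (aug (k := k) (A := A)).toCotangent a = 0 ↔ (low (k := k) (A := A)).mkQ (a : A) = 0
    rw [Ideal.toCotangent_eq_zero, Submodule.mkQ_apply, Submodule.Quotient.mk_eq_zero]
    exact ⟨fun h => Submodule.mem_sup_right h, low_inter a.2⟩
  exact ⟨(t.quotKerEquivOfSurjective ht).symm.trans
    ((Submodule.quotEquivOfEq _ _ hker).trans (g.quotKerEquivOfSurjective hg))⟩

theorem inv_mem_span_pow {p : ℕ} [CharP k p] (hp : p ≠ 0) (τ : A →ₗ[k] k) (hτ : IsTangent τ)
    {a : A} (ha : a ∈ Ideal.span ((fun a : A => a ^ p) '' (aug (k := k) (A := A) : Set A))) :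
    inv τ a ∈ Ideal.span ((fun a : A => a ^ p) '' (aug (k := k) (A := A) : Set A)) := by
  have hpow : ∀ (b : A) (j : ℕ), inv τ (b ^ (j + 1)) = (j + 1 : ℕ) * b ^ j * inv τ b := by
    intro b j
    induction j with
    | zero => simp
    | succ j ih =>
      rw [pow_succ b (j + 1), inv_mul τ hτ, ih]
      push_cast
      ring
  induction ha using Submodule.span_induction with
  | mem y hy =>
    obtain ⟨b, -, rfl⟩ := hy
    obtain ⟨j, rfl⟩ : ∃ j, p = j + 1 := ⟨p - 1, by omega⟩
    change inv τ (b ^ (j + 1)) ∈ _
    rw [hpow, show ((j + 1 : ℕ) : A) = algebraMap k A ((j + 1 : ℕ) : k) by rw [map_natCast],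
      CharP.cast_eq_zero k (j + 1), map_zero, zero_mul, zero_mul]
    exact zero_mem _
  | zero => simp
  | add y z _ _ hy hz => rw [map_add]; exact add_mem hy hz
  | smul c y hy hy' =>
    rw [smul_eq_mul, inv_mul τ hτ]
    exact add_mem (Ideal.mul_mem_left _ _ hy') (Ideal.mul_mem_left _ _ hy)

end Groth.Agent.H66.Cot
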