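import Groth.Agent.H66.Smooth.Closed
import Groth.Agent.H66.UnipPow
import Groth.Agent.H60.Haar
import Groth.Agent.Lib.DescAlg.SmoothNormal
import Groth.Prelude.Def_Lie2
import Mathlib.RingTheory.Filtration

/-! In characteristic zero a connected group is determined by its Lie algebra: infinitesimal detection. -/

set_option autoImplicit false
set_option linter.unusedSectionVars false
universe u

open TensorProduct
open Groth.Agent.Lib.Comod.Basic

namespace Groth.Agent.H66.Cot

variable {k : Type u} [Field k] {A : Type u} [CommRing A] [HopfAlgebra k A]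

local notation "ε" => Bialgebra.counitAlgHom k A

theorem inv_eq_dact (τ : A →ₗ[k] k) (a : A) : inv τ a = dact A τ a := rfl

/-- A set stable under invariant derivations and killed by the counit lies in all powers of the
augmentation ideal. -/
theorem mem_aug_pow_of_stable [CharZero k] (S : Set A) (hS : ∀ τ : A →ₗ[k] k, IsTangent τ → ∀ a ∈ S, inv τ a ∈ S)
    (h0 : ∀ a ∈ S, ε a = 0) : ∀ n : ℕ, ∀ a ∈ S, a ∈ aug (k := k) (A := A) ^ n := by
  classical
  let bas := Module.Basis.ofVectorSpace k (A ⧸ low (k := k) (A := A))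
  intro n
  induction n with
  | zero => simp
  | succ n ih =>
    intro a ha
    rcases Nat.eq_zero_or_pos n with rfl | hn
    · rw [zero_add, pow_one]; exact mem_aug.2 (h0 a ha)
    obtain ⟨m, rfl⟩ : ∃ m, n = m + 1 := ⟨n - 1, by omega⟩
    obtain ⟨f, hf, haf⟩ := aug_pow_le bas (m + 1) a (ih a ha)
    suffices hf0 : f = 0 by rwa [hf0, map_zero, sub_zero] at haf
    have hgood : GoodExp f := fun d _ i j hj _ => by exact_mod_cast Nat.one_le_iff_ne_zero.1 hj
    have hd : ∀ i, MvPolynomial.pderiv i f = 0 := fun i => by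
      obtain ⟨h1, h2⟩ := pderiv_mem bas i m f hf
      refine eq_zero_of_ev_mem bas ⊥ bot_le (fun j b hb => ?_) m _ h1 (goodExp_pderiv hgood i)
        (Ideal.mem_sup_right ?_)
      · rw [(Submodule.mem_bot A).1 hb, map_zero]; exact zero_mem _
      · have h3 := inv_pow_mem (tau bas i) (isTangent_tau bas i) (m + 1) _ haf
        rw [map_sub] at h3
        have h4 := sub_mem (ih _ (hS _ (isTangent_tau bas i) a ha)) h3
        rw [sub_sub_cancel] at h4
        have h5 := sub_mem h4 h2
        rwa [sub_sub_cancel] at h5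
    ext d
    rw [MvPolynomial.coeff_zero]
    by_cases hd0 : d = 0
    · subst hd0
      exact constantCoeff_linForms m f hf
    obtain ⟨i, hi⟩ : ∃ i, d i ≠ 0 := by
      by_contra hcon
      push_neg at hcon
      exact hd0 (Finsupp.ext hcon)
    have h := congrArg (MvPolynomial.coeff (d - Finsupp.single i 1)) (hd i)
    rw [MvPolynomial.coeff_pderiv, MvPolynomial.coeff_zero] at h
    have hadd : d - Finsupp.single i 1 + Finsupp.single i 1 = d := by
      ext j
      by_cases hj : i = j
      · subst hj; simp; omega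
      · simp [Finsupp.single_eq_of_ne (Ne.symm hj)]
    rw [hadd] at h
    simpa [Nat.cast_add_one_ne_zero] using h

variable [IsAlgClosed k] [CharZero k] [Algebra.FiniteType k A]

/-- A unipotent group in characteristic zero is irreducible. -/
theorem isDomain_of_isUnipotent (hU : HopfRep.IsUnipotent k A) : IsDomain A := by
  haveI : Nontrivial A := (ε).toRingHom.domain_nontrivial
  haveI : IsNoetherianRing A := Algebra.FiniteType.isNoetherianRing k A
  haveI : IsReduced A := Lib.Comod.Cartier.isReduced (k := k)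
  haveI := Smooth.formallySmooth (Smooth.homogeneous_counit (k := k) (A := A))
  haveI : Algebra.FinitePresentation k A := Algebra.FinitePresentation.of_finiteType.1 inferInstance
  haveI : Algebra.Smooth k A := ⟨inferInstance, inferInstance⟩
  refine Lib.DescAlg.SmoothNormal.isDomain_of_normal_of_connected
    (Lib.DescAlg.SmoothNormal.isNormalRing_of_field k) fun e he => ?_
  have hc : e = algebraMap k A (ε e) := by
    rw [← sub_eq_zero]
    refine (Groth.Agent.Lib.Comod.Orbits2.isNilpotent_of_forall_pt (k := k) fun g => ?_).eq_zero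
    rw [map_sub, AlgHom.commutes, sub_eq_zero]
    exact UnipPow.point_idem_eq_counit hU he (WithConv.toConv g)
  rcases IsIdempotentElem.iff_eq_zero_or_one.1 (he.map (ε)) with h | h
  · exact Or.inl (by rw [hc, h, map_zero])
  · exact Or.inr (by rw [hc, h, map_one])

theorem eq_zero_of_stable (hU : HopfRep.IsUnipotent k A) (S : Set A)
    (hS : ∀ τ : A →ₗ[k] k, IsTangent τ → ∀ a ∈ S, inv τ a ∈ S) (h0 : ∀ a ∈ S, ε a = 0) {a : A} (ha : a ∈ S) :
    a = 0 := by
  haveI := isDomain_of_isUnipotent hU
  haveI : IsNoetherianRing A := Algebra.FiniteType.isNoetherianRing k A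
  have h : a ∈ ⨅ n, aug (k := k) (A := A) ^ n :=
    Submodule.mem_iInf _ |>.2 fun n => mem_aug_pow_of_stable S hS h0 n a ha
  rwa [Ideal.iInf_pow_eq_bot_of_isDomain (aug (k := k) (A := A)) (RingHom.ker_ne_top _), Submodule.mem_bot] at h

/-- A tangent vector as a derivation. -/
noncomputable def toLie {τ : A →ₗ[k] k} (hτ : IsTangent τ) : LieHopf.Lie k A :=
  Derivation.mk' (τ : A →ₗ[k] LieHopf.K k A) fun a b => by
    change τ (a * b) = ε a • τ b + ε b • τ a
    rw [hτ, smul_eq_mul, smul_eq_mul]
    ring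

theorem isTangent_lie (ξ : LieHopf.Lie k A) :
    IsTangent (ξ.toLinearMap.restrictScalars k : A →ₗ[k] LieHopf.K k A) := by
  intro a b
  change ξ (a * b) = _
  rw [ξ.leibniz]
  change ε a • ξ b + ε b • ξ a = _
  exact congrArg (ε a • ξ b + ·) (mul_comm (G := k) _ _)

theorem dact_toLie {τ : A →ₗ[k] k} (hτ : IsTangent τ) {V : Type u} [AddCommGroup V] [Module k V]
    [HopfRep.Comod k A V] (v : V) :
    dact V τ v = TensorProduct.rid k V
      (LinearMap.lTensor V ((toLie hτ).toLinearMap.restrictScalars k) (HopfRep.Comod.coact (k := k) (A := A) v)) :=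
  rfl

/-- Infinitesimally stable subspaces are subcomodules. -/
theorem isSubcomod_of_tangent (hU : HopfRep.IsUnipotent k A) {V : Type u} [AddCommGroup V] [Module k V]
    [HopfRep.Comod k A V] (W : Submodule k V)
    (h : ∀ τ : A →ₗ[k] k, IsTangent τ → ∀ v ∈ W, dact V τ v ∈ W) :
    HopfRep.IsSubcomod (k := k) (A := A) W := by
  refine (isSubcomod_iff W).2 fun φ v hv => ?_
  by_contra hnv
  obtain ⟨ψ, h1, h2⟩ := Submodule.exists_dual_map_eq_bot_of_notMem hnv inferInstance
  have hψ : ∀ w ∈ W, ψ w = 0 := fun w hw => by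
    rw [← Submodule.mem_bot k, ← h2]; exact Submodule.mem_map_of_mem hw
  refine h1 ?_
  rw [← H60.Haar.apply_coef]
  have h0 : H60.Haar.coef (A := A) ψ v = 0 :=
    eq_zero_of_stable hU ((H60.Haar.coef (A := A) ψ) '' (W : Set V))
      (fun τ hτ a ha => by
        obtain ⟨w, hw, rfl⟩ := ha
        exact ⟨dact V τ w, h τ hτ w hw, map_dact (H60.Haar.isComodHom_coef ψ) τ w⟩)
      (fun a ha => by
        obtain ⟨w, hw, rfl⟩ := ha
        rw [show ε (H60.Haar.coef (A := A) ψ w) = CoalgebraStruct.counit (R := k) (H60.Haar.coef (A := A) ψ w) from rfl,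
          H60.Haar.apply_coef, dact_counit_apply]
        exact hψ w hw)
      ⟨v, hv, rfl⟩
  rw [h0, map_zero]

/-- Infinitesimally fixed vectors are fixed. -/
theorem mem_fixedPts_of_tangent (hU : HopfRep.IsUnipotent k A) {V : Type u} [AddCommGroup V] [Module k V]
    [HopfRep.Comod k A V] {v : V} (h : ∀ τ : A →ₗ[k] k, IsTangent τ → dact V τ v = 0) :
    v ∈ HopfRep.fixedPts k A V := by
  refine (Lib.Comod.Reynolds.mem_fixedPts_iff).2 fun φ => ?_
  refine sub_eq_zero.1 ((Module.forall_dual_apply_eq_zero_iff (R := k) _).1 fun ψ => ?_)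
  have h0 : H60.Haar.coef (A := A) ψ v - algebraMap k A (ψ v) = 0 := by
    refine eq_zero_of_stable hU {a | a = 0 ∨ a = H60.Haar.coef (A := A) ψ v - algebraMap k A (ψ v)}
      (fun τ hτ a ha => Or.inl ?_) (fun a ha => ?_) (Or.inr rfl)
    · rcases ha with rfl | rfl
      · exact map_zero _
      · rw [map_sub, inv_algebraMap τ hτ, sub_zero, inv_eq_dact, ← map_dact (H60.Haar.isComodHom_coef ψ),
          h τ hτ, map_zero]
    · rcases ha with rfl | rfl
      · exact map_zero _
      · rw [map_sub, AlgHom.commutes,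
          show ε (H60.Haar.coef (A := A) ψ v) = CoalgebraStruct.counit (R := k) (H60.Haar.coef (A := A) ψ v) from rfl,
          H60.Haar.apply_coef, dact_counit_apply]
        exact sub_self _
  have h1 := congrArg φ h0
  rw [map_sub, map_zero, H60.Haar.apply_coef, Algebra.algebraMap_eq_smul_one, map_smul] at h1
  rw [map_sub, map_smul, smul_eq_mul, mul_comm]
  simpa using h1

/-- Infinitesimally equivariant maps are equivariant. -/
theorem isComodHom_of_tangent (hU : HopfRep.IsUnipotent k A) {V W : Type u} [AddCommGroup V] [Module k V]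
    [HopfRep.Comod k A V] [AddCommGroup W] [Module k W] [HopfRep.Comod k A W] (g : V →ₗ[k] W)
    (h : ∀ τ : A →ₗ[k] k, IsTangent τ → ∀ v, dact W τ (g v) = g (dact V τ v)) :
    Hoch.IsComodHom A g := by
  refine (isComodHom_iff _).2 fun φ v => ?_
  refine sub_eq_zero.1 ((Module.forall_dual_apply_eq_zero_iff (R := k) _).1 fun ψ => ?_)
  have h0 : ∀ w : V, H60.Haar.coef (A := A) ψ (g w) - H60.Haar.coef (A := A) (ψ ∘ₗ g) w = 0 := fun w => by
    refine eq_zero_of_stable hU
      (Set.range fun w => H60.Haar.coef (A := A) ψ (g w) - H60.Haar.coef (A := A) (ψ ∘ₗ g) w)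
      (fun τ hτ a ha => ?_) (fun a ha => ?_) ⟨w, rfl⟩
    · obtain ⟨w, rfl⟩ := ha
      refine ⟨dact V τ w, ?_⟩
      simp only [map_sub, inv_eq_dact, ← map_dact (H60.Haar.isComodHom_coef _), h τ hτ]
    · obtain ⟨w, rfl⟩ := ha
      have e : ∀ a : A, ε a = CoalgebraStruct.counit (R := k) a := fun a => rfl
      simp only [map_sub, e, H60.Haar.apply_coef, dact_counit_apply, LinearMap.comp_apply, sub_self]
  have h1 := congrArg φ (h0 v)
  rw [map_sub, map_zero, H60.Haar.apply_coef, H60.Haar.apply_coef, LinearMap.comp_apply] at h1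
  rw [map_sub]
  first
    | exact h1
    | exact sub_eq_zero.2 (sub_eq_zero.1 h1).symm

end Groth.Agent.H66.Cot
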